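import Cfsg.Agent.SL2Class.Classes
import Cfsg.Agent.Classical.LinearBasic

/-!
Automorphisms of a central product of two copies of `SL₂` in odd characteristic.
-/

set_option autoImplicit false
set_option linter.style.haveILetI false

namespace Cfsg.Agent.TwoSL2

open Subgroup Matrix
open scoped commutatorElement

variable {F : Type*} [Field F]

local notation "SG" => Matrix.SpecialLinearGroup (Fin 2) F

theorem two_ne_zero' [Fintype F] (hF : Odd (Fintype.card F)) : (2 : F) ≠ 0 := by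
  intro h
  obtain ⟨p, hp⟩ := CharP.exists F
  obtain ⟨m, hpr, hm⟩ := FiniteField.card F p
  have h2 : p ∣ 2 := (CharP.cast_eq_zero_iff F p 2).mp (by simpa using h)
  have hp2 : p = 2 := (Nat.prime_dvd_prime_iff_eq hpr Nat.prime_two).mp h2
  rw [hm, hp2] at hF
  exact (Nat.not_odd_iff_even.mpr (even_two.pow_of_ne_zero m.ne_zero)) hF

theorem eq_neg_one_of_sq (h2 : (2 : F) ≠ 0) {x : SG} (hx : x * x = 1) (hx1 : x ≠ 1) : x = -1 := by
  have e : x⁻¹ = x := inv_eq_of_mul_eq_one_left hx
  have ev := congrArg (fun y : SG => (y : Matrix (Fin 2) (Fin 2) F)) e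
  simp only [Matrix.SpecialLinearGroup.coe_inv, Matrix.adjugate_fin_two] at ev
  have e00 := congrFun (congrFun ev 0) 0
  have e01 := congrFun (congrFun ev 0) 1
  have e10 := congrFun (congrFun ev 1) 0
  simp at e00 e01 e10
  have h01 : x.1 0 1 = 0 := by
    have h : (2 : F) * x.1 0 1 = 0 := by linear_combination (-1 : F) * e01
    exact (mul_eq_zero.mp h).resolve_left h2
  have h10 : x.1 1 0 = 0 := by
    have h : (2 : F) * x.1 1 0 = 0 := by linear_combination (-1 : F) * e10
    exact (mul_eq_zero.mp h).resolve_left h2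
  have hd := x.2
  rw [Matrix.det_fin_two, h01, h10, e00] at hd
  rcases mul_self_eq_one_iff.mp (show x.1 0 0 * x.1 0 0 = 1 by linear_combination hd) with h | h
  · exact absurd (Subtype.ext (by ext i j; fin_cases i <;> fin_cases j <;> simp [h, h01, h10, e00])) hx1
  · exact Subtype.ext (by ext i j; fin_cases i <;> fin_cases j <;> simp [h, h01, h10, e00])

theorem mem_center_sl (h2 : (2 : F) ≠ 0) {j : SG} (hj : orderOf j = 2) : j ∈ center SG := by
  rw [eq_neg_one_of_sq h2 (x := j) (by rw [← pow_two]; exact orderOf_dvd_iff_pow_eq_one.mp (dvd_of_eq hj))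
    (fun e => by simp [e] at hj)]
  exact mem_center_iff.mpr fun g => Subtype.ext (by simp)

theorem center_sl_le (h2 : (2 : F) ≠ 0) {j : SG} (hj : orderOf j = 2) {x : SG} (hx : x ∈ center SG) :
    x ∈ zpowers j := by
  rw [eq_neg_one_of_sq h2 (x := j) (by rw [← pow_two]; exact orderOf_dvd_iff_pow_eq_one.mp (dvd_of_eq hj))
    (fun e => by simp [e] at hj)]
  rcases SL2Class.mem_center_cases.1 hx with rfl | rfl
  · exact one_mem _
  · exact mem_zpowers _

local notation "PG" => Matrix.ProjectiveSpecialLinearGroup (Fin 2) F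

theorem center_psl (h2 : (2 : F) ≠ 0) : center PG = ⊥ := by
  rw [eq_bot_iff]
  intro q hq
  obtain ⟨g, rfl⟩ := QuotientGroup.mk_surjective q
  have key : ∀ x : SG, g * x = x * g ∨ g * x = -(x * g) := fun x => by
    have e := (mem_center_iff.mp hq (QuotientGroup.mk x)).symm
    rw [← QuotientGroup.mk_mul, ← QuotientGroup.mk_mul, QuotientGroup.eq] at e
    rcases SL2Class.mem_center_cases.1 e with e | e
    · exact Or.inl (inv_mul_eq_one.mp e)
    · right
      rw [show x * g = g * x * ((g * x)⁻¹ * (x * g)) by group, e]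
      simp
  let u : SG := ⟨!![1, 1; 0, 1], by simp [Matrix.det_fin_two]⟩
  let l : SG := ⟨!![1, 0; 1, 1], by simp [Matrix.det_fin_two]⟩
  have comm : ∀ x : SG, x.1.trace = 2 → g.1 * x.1 = x.1 * g.1 := by
    intro x hx
    rcases key x with h | h
    · exact congrArg (fun y : SG => y.1) h
    exfalso
    have hval : g.1 * x.1 = -(x.1 * g.1) := by
      have := congrArg (fun y : SG => y.1) h
      simpa using this
    have hg : g.1⁻¹ * g.1 = 1 := Matrix.nonsing_inv_mul _ (by rw [g.2]; exact isUnit_one)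
    have hg' : g.1 * g.1⁻¹ = 1 := Matrix.mul_nonsing_inv _ (by rw [g.2]; exact isUnit_one)
    have ht : (g.1 * x.1 * g.1⁻¹).trace = x.1.trace := by
      rw [Matrix.trace_mul_cycle, hg, Matrix.one_mul]
    rw [hval, Matrix.neg_mul, Matrix.mul_assoc, hg', Matrix.mul_one, Matrix.trace_neg, hx] at ht
    exact h2 ((mul_self_eq_zero).mp (by linear_combination (-1 : F) * ht))
  have hu := comm u (by simp [u, Matrix.trace_fin_two]; norm_num)
  have hl := comm l (by simp [l, Matrix.trace_fin_two]; norm_num)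
  have h1 := congrFun (congrFun hu 0) 0
  have h2' := congrFun (congrFun hu 0) 1
  have h3 := congrFun (congrFun hl 0) 0
  simp [u, l, Matrix.mul_apply, Fin.sum_univ_two] at h1 h2' h3
  refine Subgroup.mem_bot.mpr ((QuotientGroup.eq_one_iff g).mpr ?_)
  rw [Matrix.SpecialLinearGroup.mem_center_iff]
  refine ⟨g.1 0 0, ?_, ?_⟩
  · have hd := g.2
    rw [Matrix.det_fin_two] at hd
    rw [Fintype.card_fin, pow_two]
    grind
  · ext i j
    fin_cases i <;> fin_cases j <;> simp <;> grind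

theorem mem_center_of {G : Type*} [Group G] (C D : Subgroup G) (ht : C ⊔ D = ⊤) (x : G)
    (hC : ∀ c ∈ C, x * c = c * x) (hD : ∀ d ∈ D, x * d = d * x) : x ∈ center G := by
  have hle : C ⊔ D ≤ centralizer ({x} : Set G) := sup_le
    (fun c hc => mem_centralizer_singleton_iff.mpr (hC c hc).symm)
    (fun d hd => mem_centralizer_singleton_iff.mpr (hD d hd).symm)
  exact mem_center_iff.mpr fun g => mem_centralizer_singleton_iff.mp (hle (ht ▸ mem_top g))

/-- `PSL₂` does not decompose as a product of two commuting normal subgroups. -/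
theorem indecomposable [Fintype F] (hF : Odd (Fintype.card F)) (A B : Subgroup PG) [A.Normal]
    [B.Normal] (hc : ∀ a ∈ A, ∀ b ∈ B, a * b = b * a) (htop : A ⊔ B = ⊤) : A = ⊥ ∨ B = ⊥ := by
  have h2 := two_ne_zero' hF
  have hZ := center_psl (F := F) h2
  have hcen : ∀ C D : Subgroup PG, (∀ a ∈ C, ∀ b ∈ D, a * b = b * a) → C ⊔ D = ⊤ →
      (∀ a ∈ C, ∀ b ∈ C, a * b = b * a) → C = ⊥ := by
    intro C D hcd ht hcc
    rw [eq_bot_iff]
    exact fun x hx => hZ.le (mem_center_of C D ht x (fun c hc => hcc x hx c hc)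
      (fun d hd => hcd x hx d hd))
  by_cases hq : ∃ x : F, x ≠ 0 ∧ x ^ 2 ≠ 1
  · haveI : IsSimpleGroup PG := Classical.isSimpleGroup_psl (Or.inr ⟨by simp, hq⟩)
    rcases (inferInstance : A.Normal).eq_bot_or_eq_top with h | h
    · exact Or.inl h
    · refine Or.inr (hcen B A (fun b hb a ha => (hc a ha b hb).symm) (by rw [sup_comm, htop]) ?_)
      exact fun a ha b hb => hc a (h ▸ mem_top a) b hb
  -- three elements
  classical
  push Not at hq
  have hcard : Fintype.card F = 3 := by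
    have hs : (Finset.univ : Finset F) ⊆ {0, 1, -1} := fun x _ => by
      by_cases hx : x = 0
      · simp [hx]
      · rcases mul_self_eq_one_iff.mp ((pow_two x).symm.trans (hq x hx)) with h | h <;> simp [h]
    have h1 := (Finset.card_le_card hs).trans Finset.card_le_three
    rw [Finset.card_univ] at h1
    have h3 : Fintype.card F ≠ 1 := Fintype.one_lt_card.ne'
    obtain ⟨k, hk⟩ := hF
    omega
  have h12 : Nat.card PG = 12 := by
    have hsl : Nat.card SG = 24 := by rw [SL2Class.card_sl, hcard]; norm_num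
    have hneg : orderOf (-1 : SG) = 2 := orderOf_eq_prime (by simp [pow_two]) fun e => by
      have e' := congrFun (congrFun (congrArg Subtype.val e) 0) 0
      simp at e'
      exact h2 (by linear_combination (-1 : F) * e')
    have hz : center SG = zpowers (-1 : SG) :=
      le_antisymm (fun x hx => center_sl_le h2 hneg hx)
        (zpowers_le.mpr (mem_center_sl h2 hneg))
    have h := (center SG).card_eq_card_quotient_mul_card_subgroup
    rw [hsl, hz, Nat.card_zpowers, hneg] at h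
    show Nat.card (SG ⧸ center SG) = 12
    rw [hz]
    omega
  have hdis : A ⊓ B = ⊥ := by
    rw [eq_bot_iff]
    exact fun x hx => hZ.le (mem_center_of A B htop x (fun a ha => (hc a ha x hx.2).symm)
      (fun b hb => hc x hx.1 b hb))
  have hmul : Nat.card A * Nat.card B = 12 := by
    have h := Subgroup.card_mul_index A
    rw [← index_mul_card A, mul_comm] at h
    rw [← h12, ← A.card_mul_index]
    congr 1
    have hco : IsComplement' A B :=
      isComplement'_of_disjoint_and_mul_eq_univ (disjoint_iff.mpr hdis)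
        (by rw [← normal_mul, htop, coe_top])
    exact hco.symm.index_eq_card.symm
  have hab : ∀ C : Subgroup PG, Nat.card C ≤ 5 → ∀ a ∈ C, ∀ b ∈ C, a * b = b * a := by
    intro C hC a ha b hb
    have hpos : 0 < Nat.card C := Nat.card_pos
    have hcases : Nat.card C = 1 ∨ (Nat.card C).Prime ∨ Nat.card C = 2 ^ 2 := by
      interval_cases h : Nat.card C <;> norm_num
    have key : ∀ x y : C, x * y = y * x := by
      rcases hcases with h | h | h
      · intro x y
        haveI := (Nat.card_eq_one_iff_unique.mp h).1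
        exact Subsingleton.elim _ _
      · haveI := Fact.mk h
        haveI : IsCyclic C := isCyclic_of_prime_card rfl
        letI := IsCyclic.commGroup (α := C)
        exact mul_comm
      · exact fun x y => (IsPGroup.isMulCommutative_of_card_eq_prime_sq h).is_comm.comm x y
    exact congrArg Subtype.val (key ⟨a, ha⟩ ⟨b, hb⟩)
  by_cases hA : Nat.card A ≤ 5
  · exact Or.inl (hcen A B hc htop (hab A hA))
  · refine Or.inr (hcen B A (fun b hb a ha => (hc a ha b hb).symm) (by rw [sup_comm, htop])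
      (hab B ?_))
    by_contra hB
    have := Nat.mul_le_mul (Nat.lt_of_not_le hA) (Nat.lt_of_not_le hB)
    omega

/-- A normal pair of commuting subgroups generating `L₁L₂`: one of them lies in `L₂`. -/
theorem le_or_le [Fintype F] (hF : Odd (Fintype.card F)) {G : Type*} [Group G] [Finite G]
    (L₁ L₂ : Subgroup G) (e₁ : ↥L₁ ≃* SG) (hc : ∀ x ∈ L₁, ∀ y ∈ L₂, x * y = y * x) (j : G)
    (hj : orderOf j = 2) (hm : L₁ ⊓ L₂ = zpowers j) (A B : Subgroup G) (hA : A ≤ L₁ ⊔ L₂)
    (hB : B ≤ L₁ ⊔ L₂) (hAn : L₁ ⊔ L₂ ≤ normalizer (A : Set G))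
    (hBn : L₁ ⊔ L₂ ≤ normalizer (B : Set G)) (hAB : ∀ a ∈ A, ∀ b ∈ B, a * b = b * a)
    (hgen : L₁ ⊔ L₂ ≤ A ⊔ B) : A ≤ L₂ ∨ B ≤ L₂ := by
  classical
  have hcc : ∀ (x : L₁) (y : L₂), Commute (L₁.subtype x) (L₂.subtype y) :=
    fun x y => hc x x.2 y y.2
  let K : Subgroup G := L₁ ⊔ L₂
  let θ : ↥L₁ × ↥L₂ →* G := MonoidHom.noncommCoprod L₁.subtype L₂.subtype hcc
  have hθ : ∀ z, θ z = (z.1 : G) * z.2 := fun z => rfl
  have hrange : θ.range = L₁ ⊔ L₂ := by
    rw [MonoidHom.noncommCoprod_range, range_subtype, range_subtype]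
  let ψ : ↥L₁ × ↥L₂ →* PG :=
    (QuotientGroup.mk' (center SG)).comp (e₁.toMonoidHom.comp (MonoidHom.fst _ _))
  have hψ : Function.Surjective ψ := fun t => by
    obtain ⟨g, rfl⟩ := QuotientGroup.mk_surjective t
    exact ⟨(e₁.symm g, 1), by simp [ψ]⟩
  -- elements of `L₁ ∩ L₂` are central
  have hjmem : j ∈ L₁ := (hm.ge (mem_zpowers j)).1
  have hjc : e₁ ⟨j, hjmem⟩ ∈ center SG := mem_center_sl (two_ne_zero' hF) (by
    rw [MulEquiv.orderOf_eq, ← orderOf_injective L₁.subtype Subtype.val_injective]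
    exact hj)
  have hker : ∀ z, θ z = 1 → ψ z = 1 := by
    intro z hz
    have hz2 : (z.1 : G) ∈ L₂ := by
      rw [show (z.1 : G) = (z.2 : G)⁻¹ from eq_inv_of_mul_eq_one_left hz]
      exact L₂.inv_mem z.2.2
    have h1 : (z.1 : G) ∈ zpowers j := hm.le ⟨z.1.2, hz2⟩
    obtain ⟨k, hk⟩ := h1
    refine (QuotientGroup.eq_one_iff _).mpr ?_
    show e₁ z.1 ∈ center SG
    rw [show z.1 = (⟨j, hjmem⟩ : L₁) ^ k from Subtype.ext (by simpa using hk.symm), map_zpow]
    exact zpow_mem hjc k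
  have hnorm : ∀ C : Subgroup G, L₁ ⊔ L₂ ≤ normalizer (C : Set G) →
      ((C.comap θ).map ψ).Normal := fun C hC => by
    haveI : (C.comap θ).Normal := ⟨fun z hz g => by
      rw [mem_comap, map_mul, map_mul, map_inv]
      exact (mem_normalizer_iff.mp (hC (hrange ▸ ⟨g, rfl⟩)) _).mp hz⟩
    exact Normal.map inferInstance ψ hψ
  haveI := hnorm A hAn
  haveI := hnorm B hBn
  have hcomm : ∀ a ∈ (A.comap θ).map ψ, ∀ b ∈ (B.comap θ).map ψ, a * b = b * a := by
    rintro _ ⟨a, ha, rfl⟩ _ ⟨b, hb, rfl⟩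
    rw [← commutatorElement_eq_one_iff_mul_comm, ← map_commutatorElement]
    refine hker _ ?_
    rw [map_commutatorElement, commutatorElement_eq_one_iff_mul_comm]
    exact hAB _ ha _ hb
  have htop : (A.comap θ).map ψ ⊔ (B.comap θ).map ψ = ⊤ := by
    rw [← Subgroup.map_sup, eq_top_iff, ← map_top_of_surjective ψ hψ]
    rintro _ ⟨z, -, rfl⟩
    have hz : θ z ∈ (((A.comap θ) ⊔ (B.comap θ)).map θ) := by
      rw [Subgroup.map_sup, map_comap_eq, map_comap_eq, hrange, inf_eq_right.mpr hA,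
        inf_eq_right.mpr hB]
      exact hgen (hrange ▸ ⟨z, rfl⟩)
    obtain ⟨w, hw, hwz⟩ := hz
    have e : ψ z = ψ w := by
      have := hker (w⁻¹ * z) (by rw [map_mul, map_inv, hwz, inv_mul_cancel])
      rw [map_mul, map_inv, inv_mul_eq_one] at this
      exact this.symm
    exact e ▸ mem_map_of_mem ψ hw
  have fin : ∀ C : Subgroup G, C ≤ L₁ ⊔ L₂ → (C.comap θ).map ψ = ⊥ → C ≤ L₂ := by
    intro C hC h c hcC
    obtain ⟨z, rfl⟩ := hrange.ge (hC hcC)
    have h1 : ψ z = 1 := by
      rw [← Subgroup.mem_bot, ← h]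
      exact mem_map_of_mem ψ hcC
    have h2 : e₁ z.1 ∈ center SG := (QuotientGroup.eq_one_iff _).mp h1
    obtain ⟨k, hk⟩ := center_sl_le (two_ne_zero' hF) (j := e₁ ⟨j, hjmem⟩) (by
      rw [MulEquiv.orderOf_eq, ← orderOf_injective L₁.subtype Subtype.val_injective]
      exact hj) h2
    simp only [← map_zpow, EmbeddingLike.apply_eq_iff_eq] at hk
    rw [hθ]
    refine mul_mem ?_ z.2.2
    have hzj : (z.1 : G) ∈ zpowers j := ⟨k, by rw [← hk]; simp⟩
    exact ((hm.ge hzj).2)
  exact (indecomposable hF _ _ hcomm htop).imp (fin A hA) (fin B hB)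

section Main

variable [Fintype F] {F' : Type*} [Field F'] [Fintype F'] {G : Type*} [Group G] [Finite G]

theorem card_sl_strict {a b : ℕ} (ha : 1 ≤ a) (hab : a < b) : a * (a ^ 2 - 1) < b * (b ^ 2 - 1) := by
  have h1 : a ^ 2 < b ^ 2 := Nat.pow_lt_pow_left hab two_ne_zero
  have hb : 1 ≤ b ^ 2 := Nat.one_le_pow _ _ (by omega)
  have ha2 : 1 ≤ a ^ 2 := Nat.one_le_pow _ _ ha
  exact Nat.mul_lt_mul_of_lt_of_lt hab (by omega)

theorem main (hF : Odd (Fintype.card F)) (hF' : Odd (Fintype.card F')) (L₁ L₂ : Subgroup G)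
    (e₁ : ↥L₁ ≃* SG) (e₂ : ↥L₂ ≃* Matrix.SpecialLinearGroup (Fin 2) F')
    (hc : ∀ x ∈ L₁, ∀ y ∈ L₂, x * y = y * x) (j : G) (hj : orderOf j = 2)
    (hm : L₁ ⊓ L₂ = zpowers j) (hle : L₁ ⊔ L₂ ≤ centralizer ({j} : Set G))
    (hi : (L₁ ⊔ L₂).relIndex (centralizer ({j} : Set G)) = 2) (n : G)
    (hn : n ∈ centralizer ({j} : Set G)) (hn' : n ∉ L₁ ⊔ L₂) :
    (L₁.map (MulAut.conj n).toMonoidHom = L₁ ∧ L₂.map (MulAut.conj n).toMonoidHom = L₂) ∨
      (L₁.map (MulAut.conj n).toMonoidHom = L₂ ∧ Fintype.card F = Fintype.card F' ∧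
        ∃ n' ∈ centralizer ({j} : Set G), n' ∉ L₁ ⊔ L₂ ∧
          L₁.map (MulAut.conj n').toMonoidHom = L₂ ∧ n' ^ 2 ∈ zpowers j) := by
  set c := (MulAut.conj n).toMonoidHom
  set K := L₁ ⊔ L₂ with hK
  have hidx : (K.subgroupOf (centralizer ({j} : Set G))).index = 2 := hi
  haveI : (K.subgroupOf (centralizer ({j} : Set G))).Normal := normal_of_index_eq_two hidx
  have hnK : centralizer ({j} : Set G) ≤ normalizer (K : Set G) :=
    (normal_subgroupOf_iff_le_normalizer hle).mp inferInstance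
  have hKmap : K.map c = K := mem_normalizer_iff_map_conj_eq.mp (hnK hn)
  have hM₁ : L₁.map c ≤ K := hKmap ▸ map_mono le_sup_left
  have hM₂ : L₂.map c ≤ K := hKmap ▸ map_mono le_sup_right
  have hnormL : K ≤ normalizer (L₁ : Set G) ∧ K ≤ normalizer (L₂ : Set G) := by
    refine ⟨sup_le Subgroup.le_normalizer fun y hy => ?_, sup_le (fun x hx => ?_) Subgroup.le_normalizer⟩
    · exact centralizer_le_normalizer _ (mem_centralizer_iff.mpr fun x hx => hc x hx y hy)
    · exact centralizer_le_normalizer _ (mem_centralizer_iff.mpr fun y hy => (hc x hx y hy).symm)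
  have hnM : ∀ L : Subgroup G, K ≤ normalizer (L : Set G) → K ≤ normalizer ((L.map c : Subgroup G) : Set G) := by
    intro L hL
    rw [← hKmap]
    exact (map_mono hL).trans (le_normalizer_map _)
  have hMc : ∀ a ∈ L₁.map c, ∀ b ∈ L₂.map c, a * b = b * a := by
    rintro _ ⟨a, ha, rfl⟩ _ ⟨b, hb, rfl⟩
    rw [← map_mul, hc a ha b hb, map_mul]
  have hgen : K ≤ L₁.map c ⊔ L₂.map c := by rw [← Subgroup.map_sup, hKmap]
  have h1 := le_or_le hF L₁ L₂ e₁ hc j hj hm _ _ hM₁ hM₂ (hnM _ hnormL.1) (hnM _ hnormL.2) hMc hgen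
  have hsw : L₂ ⊔ L₁ = K := sup_comm _ _
  have h2 := le_or_le hF' L₂ L₁ e₂ (fun x hx y hy => (hc y hy x hx).symm) j hj
    (by rw [inf_comm, hm]) (L₁.map c) (L₂.map c) (hsw ▸ hM₁) (hsw ▸ hM₂)
    (hsw ▸ hnM _ hnormL.1) (hsw ▸ hnM _ hnormL.2) hMc (hsw ▸ hgen)
  have hcard : ∀ L : Subgroup G, Nat.card ↥(L.map c) = Nat.card L := fun L =>
    card_map_of_injective (MulAut.conj n).injective
  have hsl₁ : Nat.card L₁ = Fintype.card F * (Fintype.card F ^ 2 - 1) := by
    rw [Nat.card_congr e₁.toEquiv, SL2Class.card_sl]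
  have hsl₂ : Nat.card L₂ = Fintype.card F' * (Fintype.card F' ^ 2 - 1) := by
    rw [Nat.card_congr e₂.toEquiv, SL2Class.card_sl]
  have hbig : ∀ L : Subgroup G, 2 < Nat.card L → ¬ L.map c ≤ L₁ ⊓ L₂ := fun L hL hle' => by
    have := card_le_of_le (hle'.trans hm.le)
    rw [hcard, Nat.card_zpowers, hj] at this
    omega
  have h6 : ∀ q : ℕ, Odd q → 1 < q → 2 < q * (q ^ 2 - 1) := fun q hq hq1 => by
    have h3 : 3 ≤ q := by obtain ⟨k, rfl⟩ := hq; omega
    have := card_sl_strict (by norm_num) (show 2 < q by omega)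
    norm_num at this
    omega
  have hb₁ := hbig L₁ (hsl₁ ▸ h6 _ hF Fintype.one_lt_card)
  have hb₂ := hbig L₂ (hsl₂ ▸ h6 _ hF' Fintype.one_lt_card)
  rcases h1 with a | a <;> rcases h2 with b | b
  · exact absurd (le_inf b a) hb₁
  · -- the interchanged case
    right
    have l1 := card_le_of_le a
    have l2 := card_le_of_le b
    rw [hcard] at l1 l2
    have hL : L₁.map c = L₂ := eq_of_le_of_card_ge a (by rw [hcard]; exact l2)
    have hL' : L₂.map c = L₁ := eq_of_le_of_card_ge b (by rw [hcard]; exact l1)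
    refine ⟨hL, ?_, ?_⟩
    · rcases lt_trichotomy (Fintype.card F) (Fintype.card F') with h | h | h
      · have := card_sl_strict Fintype.card_pos h; omega
      · exact h
      · have := card_sl_strict Fintype.card_pos h; omega
    have hsq : n ^ 2 ∈ K :=
      mem_subgroupOf.mp (sq_mem_of_index_two hidx (⟨n, hn⟩ : centralizer ({j} : Set G)))
    obtain ⟨⟨x, y⟩, hxy⟩ : ∃ z : ↥L₁ × ↥L₂, (z.1 : G) * z.2 = n ^ 2 := by
      have hr : (MonoidHom.noncommCoprod L₁.subtype L₂.subtype fun x y => hc x x.2 y y.2).range = K := by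
        refine (MonoidHom.noncommCoprod_range _ _ _).trans ?_
        rw [range_subtype, range_subtype]
      obtain ⟨z, hz⟩ := hr.ge hsq
      exact ⟨z, hz⟩
    set a' := (x : G) with ha'
    set b' := (y : G) with hb'
    have hnb : n * b' * n⁻¹ ∈ L₁ := hL' ▸ mem_map_of_mem c y.2
    have hna : n * a' * n⁻¹ ∈ L₂ := hL ▸ mem_map_of_mem c x.2
    have hε : a'⁻¹ * (n * b' * n⁻¹) ∈ zpowers j := by
      rw [← hm]
      refine ⟨mul_mem (L₁.inv_mem x.2) hnb, ?_⟩
      have e : a'⁻¹ * (n * b' * n⁻¹) = b' * (n * a' * n⁻¹)⁻¹ := by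
        have e1 : (n * a' * n⁻¹) * (n * b' * n⁻¹) = a' * b' := by
          calc (n * a' * n⁻¹) * (n * b' * n⁻¹) = n * (a' * b') * n⁻¹ := by group
            _ = n * n ^ 2 * n⁻¹ := by rw [← hxy]
            _ = n ^ 2 := by group
            _ = a' * b' := hxy.symm
        rw [← hc _ hnb _ hna] at e1
        rw [eq_mul_inv_iff_mul_eq, mul_assoc, e1, inv_mul_cancel_left]
      rw [e]
      exact L₂.mul_mem y.2 (L₂.inv_mem hna)
    refine ⟨n * a'⁻¹, mul_mem hn (hle (le_sup_left (b := L₂) (L₁.inv_mem x.2))), ?_, ?_, ?_⟩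
    · intro h
      exact hn' (by simpa using mul_mem h (show a' ∈ K from mem_sup_left x.2))
    · have e : (MulAut.conj (n * a'⁻¹)).toMonoidHom = c.comp (MulAut.conj a'⁻¹).toMonoidHom := by
        ext g; simp [c, mul_assoc]
      have e' : L₁.map (MulAut.conj a'⁻¹).toMonoidHom = L₁ :=
        mem_normalizer_iff_map_conj_eq.mp (Subgroup.le_normalizer (L₁.inv_mem x.2))
      rw [e, ← Subgroup.map_map, e', hL]
    · set ε := a'⁻¹ * (n * b' * n⁻¹) with hεdef
      have hεc : Commute n ε := by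
        obtain ⟨k, hk⟩ := hε
        rw [← hk]
        exact (show Commute n j from mem_centralizer_singleton_iff.mp hn).zpow_right k
      have hεa : Commute a' ε := by
        obtain ⟨k, hk⟩ := hε
        rw [← hk]
        exact (show Commute a' j from
          mem_centralizer_singleton_iff.mp (hle (mem_sup_left x.2))).zpow_right k
      have e2 : n * b' * n⁻¹ = a' * ε := by rw [hεdef]; group
      have e3 : n⁻¹ * a'⁻¹ * n = b'⁻¹ * ε := by
        have : a' = (n * b' * n⁻¹) * ε⁻¹ := by rw [e2]; group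
        rw [this]
        calc n⁻¹ * (n * b' * n⁻¹ * ε⁻¹)⁻¹ * n = (n⁻¹ * ε * n) * b'⁻¹ := by group
          _ = ε * b'⁻¹ := by rw [mul_assoc n⁻¹, ← hεc.eq, inv_mul_cancel_left]
          _ = b'⁻¹ * ε := by
            have hεb : Commute ε b' := by
              obtain ⟨k, hk⟩ := hε
              rw [← hk]
              exact ((show Commute b' j from
                mem_centralizer_singleton_iff.mp (hle (mem_sup_right y.2))).zpow_right k).symm
            exact hεb.inv_right.eq
      have : (n * a'⁻¹) ^ 2 = ε := by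
        calc (n * a'⁻¹) ^ 2 = n ^ 2 * (n⁻¹ * a'⁻¹ * n) * a'⁻¹ := by rw [pow_two, pow_two]; group
          _ = a' * b' * (b'⁻¹ * ε) * a'⁻¹ := by rw [e3, hxy]
          _ = a' * ε * a'⁻¹ := by group
          _ = ε := by rw [hεa.eq, mul_inv_cancel_right]
      rw [this]
      exact hε
  · -- both fixed
    left
    exact ⟨eq_of_le_of_card_ge b (hcard L₁).ge, eq_of_le_of_card_ge a (hcard L₂).ge⟩
  · exact absurd (le_inf b a) hb₂

end Main

end Cfsg.Agent.TwoSL2
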