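import Cfsg.Agent.SL2Class.Torus
import Cfsg.Agent.Invol.ZStar
import Cfsg.Agent.Invol.Isolated

/-!
# An involution centraliser made of two commuting `SL(2, q)` swapped by an element squaring to it
-/

set_option autoImplicit false
set_option linter.style.haveILetI false
set_option linter.unusedSectionVars false

namespace Cfsg.Agent.TwoSL2

open Subgroup

/-- The needed properties of a copy of `SL(2,q)` with central involution `j`. -/
structure Half {G : Type*} [Group G] (L : Subgroup G) (j : G) : Prop where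
  invol : ∀ x ∈ L, x * x = 1 → x = 1 ∨ x = j
  four : ∀ a ∈ L, ∀ a' ∈ L, a * a = j → a' * a' = j → ∃ m ∈ L, m * a * m⁻¹ = a'
  tor : ∀ a ∈ L, a * a = j → ∀ x ∈ L, ∀ y ∈ L, x * a = a * x → y * a = a * y → x * y = y * x

section FromSL

open Cfsg.Agent.SL2Class

variable {F : Type*} [Field F] [Fintype F]

local notation "SG" => Matrix.SpecialLinearGroup (Fin 2) F

theorem tr_eq_zero_of_sq (h2 : (2 : F) ≠ 0) {a : SG} (ha : a * a = -1) : NonScalar a ∧ tr a = 0 := by
  have hns : NonScalar a := by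
    by_contra h
    rcases scalar_eq h with e | e
    · rw [e, mul_one] at ha; exact neg_one_ne_one h2 ha.symm
    · rw [e, neg_mul_self_eq] at ha; exact neg_one_ne_one h2 ha.symm
  refine ⟨hns, ?_⟩
  have e6 := g_sq a
  rw [← Matrix.SpecialLinearGroup.coe_mul, ha] at e6
  have e7 : lin a (-1) 0 = lin a (-1) (tr a) := by
    rw [← e6]
    ext i k
    simp [lin_apply, Matrix.SpecialLinearGroup.coe_neg]
  exact (lin_ext hns e7).2.symm

theorem half_of_equiv {G : Type*} [Group G] {L : Subgroup G} (e : L ≃* SG) (h2 : (2 : F) ≠ 0)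
    {j : G} (hjL : j ∈ L) (hj : orderOf j = 2) : Half L j := by
  have hej : e ⟨j, hjL⟩ = -1 := by
    have h1 : e ⟨j, hjL⟩ * e ⟨j, hjL⟩ = 1 := by
      rw [← map_mul, ← map_one e]
      congr 1
      exact Subtype.ext (by rw [Subgroup.coe_mul, Subgroup.coe_one, ← pow_two, ← hj, pow_orderOf_eq_one])
    rcases sq_eq_one_cases h2 h1 with h | h
    · rw [← map_one e] at h
      have := congrArg Subtype.val (e.injective h)
      simp only [Subgroup.coe_one] at this
      rw [this, orderOf_one] at hj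
      exact absurd hj (by norm_num)
    · exact h
  have hsq : ∀ a (ha : a ∈ L), a * a = j → e ⟨a, ha⟩ * e ⟨a, ha⟩ = -1 := fun a ha h => by
    rw [← map_mul, ← hej]
    exact congrArg e (Subtype.ext h)
  refine ⟨fun x hx h => ?_, fun a ha a' ha' h h' => ?_, fun a ha h x hx y hy hxa hya => ?_⟩
  · have h1 : e ⟨x, hx⟩ * e ⟨x, hx⟩ = 1 := by
      rw [← map_mul, ← map_one e]
      exact congrArg e (Subtype.ext h)
    rcases sq_eq_one_cases h2 h1 with h0 | h0
    · rw [← map_one e] at h0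
      exact Or.inl (congrArg Subtype.val (e.injective h0))
    · rw [← hej] at h0
      exact Or.inr (congrArg Subtype.val (e.injective h0))
  · obtain ⟨hn, ht⟩ := tr_eq_zero_of_sq h2 (hsq a ha h)
    obtain ⟨hn', ht'⟩ := tr_eq_zero_of_sq h2 (hsq a' ha' h')
    have hd : tr (e ⟨a, ha⟩) * tr (e ⟨a, ha⟩) ≠ 4 := by
      rw [ht, mul_zero]
      intro h4
      exact h2 (mul_self_eq_zero.1 (show (2 : F) * 2 = 0 by linear_combination -h4))
    obtain ⟨c, hc⟩ := isConj_iff.1 (isConj_of_tr hn hn' (ht.trans ht'.symm) (Or.inl hd))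
    refine ⟨e.symm c, (e.symm c).2, ?_⟩
    have := congrArg (fun z => (e.symm z : G)) hc
    simpa [map_mul, map_inv] using this
  · obtain ⟨hn, -⟩ := tr_eq_zero_of_sq h2 (hsq a ha h)
    have hx' : e ⟨x, hx⟩ ∈ Subgroup.centralizer ({e ⟨a, ha⟩} : Set SG) :=
      mem_centralizer_singleton_iff.2 (by
        rw [← map_mul, ← map_mul]; exact congrArg e (Subtype.ext hxa))
    have hy' : e ⟨y, hy⟩ ∈ Subgroup.centralizer ({e ⟨a, ha⟩} : Set SG) :=
      mem_centralizer_singleton_iff.2 (by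
        rw [← map_mul, ← map_mul]; exact congrArg e (Subtype.ext hya))
    have := centralizer_comm hn hx' hy'
    rw [← map_mul, ← map_mul] at this
    exact congrArg Subtype.val (e.injective this)

end FromSL

variable {G : Type*} [Group G] {L₁ L₂ : Subgroup G} {j n : G}

/-- The setting. -/
structure Swap (L₁ L₂ : Subgroup G) (j n : G) : Prop where
  h1 : Half L₁ j
  h2 : Half L₂ j
  jne : j ≠ 1
  jj : j * j = 1
  comm : ∀ x ∈ L₁, ∀ y ∈ L₂, x * y = y * x
  inter : ∀ x, x ∈ L₁ → x ∈ L₂ → x = 1 ∨ x = j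
  jm1 : j ∈ L₁
  jm2 : j ∈ L₂
  nn : n * n = j
  swap : ∀ x ∈ L₁, n * x * n⁻¹ ∈ L₂
  cent : ∀ c : G, c * j = j * c → (∃ x ∈ L₁, ∃ z ∈ L₂, c = x * z) ∨ ∃ x ∈ L₁, ∃ z ∈ L₂, c = n * (x * z)
  central1 : ∀ x ∈ L₁, x * j = j * x
  central2 : ∀ x ∈ L₂, x * j = j * x
  swapback : ∀ x ∈ L₂, n * x * n⁻¹ ∈ L₁

variable (S : Swap L₁ L₂ j n)
include S

theorem Swap.n_comm : n * j = j * n := by rw [← S.nn, mul_assoc]

theorem Swap.jinv : j⁻¹ = j := inv_eq_of_mul_eq_one_right S.jj

theorem Swap.ninv : n⁻¹ = j * n := by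
  refine inv_eq_of_mul_eq_one_right ?_
  rw [← mul_assoc, S.n_comm, mul_assoc, S.nn, S.jj]

theorem Swap.conj_eq_conj_inv {x : G} (hx : x * j = j * x) : n⁻¹ * x * n = n * x * n⁻¹ := by
  rw [eq_mul_inv_iff_mul_eq, mul_assoc, S.nn, mul_assoc, hx, S.ninv]
  rw [show j * n * (j * x) = j * (n * j) * x by group, S.n_comm,
    show j * (j * n) * x = (j * j) * n * x by group, S.jj, one_mul]

theorem Swap.sq_prod {x z : G} (hx : x ∈ L₁) (hz : z ∈ L₂) : x * z * (x * z) = (x * x) * (z * z) := by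
  rw [mul_assoc, ← mul_assoc z, ← S.comm x hx z hz]
  group

/-- Squares of elements outside `L₁ L₂`. -/
theorem Swap.sq_out {x z : G} (hx : x ∈ L₁) (hz : z ∈ L₂) :
    n * (x * z) * (n * (x * z)) = j * ((n⁻¹ * z * n * x) * (n⁻¹ * x * n * z)) := by
  have hxn : n⁻¹ * x * n ∈ L₂ := by rw [S.conj_eq_conj_inv (S.central1 x hx)]; exact S.swap x hx
  rw [show n * (x * z) * (n * (x * z)) = n * n * ((n⁻¹ * x * n) * (n⁻¹ * z * n)) * (x * z) by group,
    S.nn, mul_assoc]
  congr 1
  have hzn : n⁻¹ * z * n ∈ L₁ := by rw [S.conj_eq_conj_inv (S.central2 z hz)]; exact S.swapback z hz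
  calc n⁻¹ * x * n * (n⁻¹ * z * n) * (x * z)
      = n⁻¹ * z * n * (n⁻¹ * x * n) * (x * z) := by rw [S.comm _ hzn _ hxn]
    _ = n⁻¹ * z * n * ((n⁻¹ * x * n) * x) * z := by group
    _ = n⁻¹ * z * n * (x * (n⁻¹ * x * n)) * z := by rw [S.comm x hx _ hxn]
    _ = _ := by group

theorem Swap.split {x z a b : G} (hx : x ∈ L₁) (hz : z ∈ L₂) (ha : a ∈ L₁) (hb : b ∈ L₂)
    (h : x * z = a * b) : (x = a ∧ z = b) ∨ (x = a * j ∧ z = j * b) := by
  have e : a⁻¹ * x = b * z⁻¹ := by
    rw [inv_mul_eq_iff_eq_mul, ← mul_assoc, ← h, mul_inv_cancel_right]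
  rcases S.inter (a⁻¹ * x) (mul_mem (inv_mem ha) hx) (e ▸ mul_mem hb (inv_mem hz)) with h0 | h0
  · left
    have hxa : x = a := (inv_mul_eq_one.1 h0).symm
    subst hxa
    exact ⟨rfl, mul_left_cancel h⟩
  · right
    have hxa : x = a * j := by rw [← h0, mul_inv_cancel_left]
    refine ⟨hxa, ?_⟩
    rw [hxa, mul_assoc] at h
    have := mul_left_cancel h
    rw [← this, ← mul_assoc, S.jj, one_mul]

/-- No involution other than `j` outside... -/
theorem Swap.no_out {x z : G} (hx : x ∈ L₁) (hz : z ∈ L₂) : n * (x * z) * (n * (x * z)) ≠ 1 := by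
  intro h
  rw [S.sq_out hx hz] at h
  have hxn : n⁻¹ * x * n ∈ L₂ := by rw [S.conj_eq_conj_inv (S.central1 x hx)]; exact S.swap x hx
  have hzn : n⁻¹ * z * n ∈ L₁ := by rw [S.conj_eq_conj_inv (S.central2 z hz)]; exact S.swapback z hz
  have h' : n⁻¹ * z * n * x * (n⁻¹ * x * n * z) = 1 * j := by
    rw [one_mul, ← inv_eq_of_mul_eq_one_right h, S.jinv]
  -- the second factor is conjugate to the first
  have hconj : n⁻¹ * x * n * z = n⁻¹ * (x * (n⁻¹ * z * n)) * n := by
    rw [S.conj_eq_conj_inv (S.central2 z hz)]; group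
  have hk : ∀ c : G, c = 1 ∨ c = j → x * (n⁻¹ * z * n) = c → n⁻¹ * x * n * z = c := by
    rintro c hc e
    rw [hconj, e]
    rcases hc with rfl | rfl
    · group
    · rw [mul_assoc, ← S.n_comm, inv_mul_cancel_left]
  have hcase : n⁻¹ * z * n * x = 1 ∨ n⁻¹ * z * n * x = j := by
    rcases S.split (mul_mem hzn hx) (mul_mem hxn hz) (one_mem _) S.jm2 h' with ⟨e, -⟩ | ⟨e, -⟩
    · exact Or.inl e
    · exact Or.inr (e.trans (one_mul j))
  rcases hcase with e | e
  · have e2 : x * (n⁻¹ * z * n) = 1 := mul_eq_one_comm.1 e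
    rw [e, hk 1 (Or.inl rfl) e2, one_mul, one_mul] at h'
    exact S.jne h'.symm
  · have e2 : x * (n⁻¹ * z * n) = j := by
      have : x = (n⁻¹ * z * n)⁻¹ * j := eq_inv_mul_of_mul_eq e
      rw [this, mul_assoc, ← S.central1 _ hzn, inv_mul_cancel_left]
    rw [e, hk j (Or.inr rfl) e2, S.jj, one_mul] at h'
    exact S.jne h'.symm

/-- An involution of `C(j)` is `j` or a product of two elements of order four. -/
theorem Swap.invol_cases {v : G} (hv : v * j = j * v) (hvv : v * v = 1) (hv1 : v ≠ 1) (hvj : v ≠ j) :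
    ∃ a ∈ L₁, ∃ b ∈ L₂, a * a = j ∧ b * b = j ∧ v = a * b := by
  rcases S.cent v hv with ⟨a, ha, b, hb, rfl⟩ | ⟨x, hx, z, hz, rfl⟩
  · rw [S.sq_prod ha hb] at hvv
    have e : a * a = (b * b)⁻¹ := eq_inv_of_mul_eq_one_left hvv
    rcases S.inter (a * a) (mul_mem ha ha) (e ▸ inv_mem (mul_mem hb hb)) with h | h
    · exfalso
      rw [h, one_mul] at hvv
      rcases S.h1.invol a ha h with rfl | rfl <;> rcases S.h2.invol b hb hvv with rfl | rfl
      · exact hv1 (mul_one 1)
      · exact hvj (one_mul _)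
      · exact hvj (mul_one _)
      · exact hv1 S.jj
    · refine ⟨a, ha, b, hb, h, ?_, rfl⟩
      rw [h] at hvv
      rw [← inv_eq_of_mul_eq_one_right hvv, S.jinv]
  · exact absurd hvv (S.no_out hx hz)

/-- All products of two elements of order four are conjugate in `L₁ L₂`. -/
theorem Swap.four_conj {a b a' b' : G} (ha : a ∈ L₁) (hb : b ∈ L₂) (ha' : a' ∈ L₁) (hb' : b' ∈ L₂)
    (h1 : a * a = j) (h2 : b * b = j) (h1' : a' * a' = j) (h2' : b' * b' = j) :
    ∃ m : G, m * j = j * m ∧ m * (a * b) * m⁻¹ = a' * b' := by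
  obtain ⟨m₁, hm₁, e₁⟩ := S.h1.four a ha a' ha' h1 h1'
  obtain ⟨m₂, hm₂, e₂⟩ := S.h2.four b hb b' hb' h2 h2'
  refine ⟨m₁ * m₂, ?_, ?_⟩
  · rw [mul_assoc, S.central2 m₂ hm₂, ← mul_assoc, S.central1 m₁ hm₁, mul_assoc]
  · have ea : m₂ * a = a * m₂ := (S.comm a ha m₂ hm₂).symm
    calc m₁ * m₂ * (a * b) * (m₁ * m₂)⁻¹ = m₁ * (m₂ * a) * b * m₂⁻¹ * m₁⁻¹ := by group
      _ = m₁ * a * (m₂ * b * m₂⁻¹) * m₁⁻¹ := by rw [ea]; group
      _ = m₁ * a * (b' * m₁⁻¹) := by rw [e₂, mul_assoc]
      _ = m₁ * a * (m₁⁻¹ * b') := by rw [S.comm m₁⁻¹ (inv_mem hm₁) b' hb']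
      _ = a' * b' := by rw [← mul_assoc, e₁]

variable [Finite G]

/-- No conjugation exchanges `j` with a product of two elements of order four. -/
theorem Swap.no_exchange {a : G} (ha : a ∈ L₁) (haa : a * a = j) {g : G}
    (hgv : g * (a * (n * a * n⁻¹)) * g⁻¹ = j) (hgj : g * j * g⁻¹ = a * (n * a * n⁻¹)) : False := by
  classical
  set b := n * a * n⁻¹ with hb'
  have hb : b ∈ L₂ := S.swap a ha
  have hbb : b * b = j := by
    rw [hb', show n * a * n⁻¹ * (n * a * n⁻¹) = n * (a * a) * n⁻¹ by group, haa, S.n_comm,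
      mul_inv_cancel_right]
  set v := a * b with hv
  have hnb : n * b * n⁻¹ = a := by
    rw [hb', show n * (n * a * n⁻¹) * n⁻¹ = (n * n) * a * (n * n)⁻¹ by group, S.nn,
      ← S.central1 a ha, mul_inv_cancel_right]
  have hnv : n * v = v * n := by
    rw [hv, ← mul_inv_eq_iff_eq_mul, show n * (a * b) * n⁻¹ = (n * a * n⁻¹) * (n * b * n⁻¹) by group,
      hnb, ← hb', S.comm a ha b hb]
  have hvj : v * j = j * v := by
    rw [hv, mul_assoc, S.central2 b hb, ← mul_assoc, S.central1 a ha, mul_assoc]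
  have hjv : j ≠ v := by
    intro h
    rcases S.split S.jm1 (one_mem L₂) ha hb (show j * 1 = a * b by rw [mul_one, h]) with
      ⟨e, -⟩ | ⟨e, -⟩
    · rw [← e, S.jj] at haa; exact S.jne haa.symm
    · have : a = 1 := by simpa using e.symm
      rw [this, mul_one] at haa; exact S.jne haa.symm
  haveI : Fintype G := Fintype.ofFinite G
  set C : Finset G := Finset.univ.filter fun y => y * j = j * y ∧ y * v = v * y with hC
  set Sj := C.filter fun y => y * y = j with hSj
  set Sv := C.filter fun y => y * y = v with hSv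
  -- conjugation by `g` gives a bijection
  have hcard : Sj.card ≤ Sv.card := by
    refine Finset.card_le_card_of_injOn (fun y => g * y * g⁻¹) ?_ ?_
    · intro y hy
      simp only [hSj, hC, Finset.coe_filter, Finset.mem_filter, Finset.mem_univ, true_and,
        Set.mem_ofPred_eq, hSv] at hy ⊢
      obtain ⟨⟨h1, h2⟩, h3⟩ := hy
      have k1 : g * y * g⁻¹ * v = v * (g * y * g⁻¹) := by
        rw [← hgj]
        calc g * y * g⁻¹ * (g * j * g⁻¹) = g * (y * j) * g⁻¹ := by group
          _ = g * (j * y) * g⁻¹ := by rw [h1]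
          _ = _ := by group
      have k2 : g * y * g⁻¹ * j = j * (g * y * g⁻¹) := by
        rw [← hgv]
        calc g * y * g⁻¹ * (g * v * g⁻¹) = g * (y * v) * g⁻¹ := by group
          _ = g * (v * y) * g⁻¹ := by rw [h2]
          _ = _ := by group
      exact ⟨⟨k2, k1⟩, by rw [← hgj, ← h3]; group⟩
    · intro y _ y' _ e
      simpa using e
  let inM : G → Prop := fun y => ∃ x ∈ L₁, ∃ z ∈ L₂, y = x * z
  have hout : ∀ y ∈ C, ¬ inM y → ∃ x ∈ L₁, ∃ z ∈ L₂, y = n * (x * z) := fun y hy h => by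
    simp only [hC, Finset.mem_filter] at hy
    exact (S.cent y hy.2.1).resolve_left h
  -- square roots in `L₁ L₂`
  have hMj : ({a, a * j, b, b * j} : Finset G) ⊆ Sj.filter inM := by
    intro y hy
    have hab : a * b = b * a := S.comm a ha b hb
    have m1 : a * j ∈ L₁ := mul_mem ha S.jm1
    have m2 : b * j ∈ L₂ := mul_mem hb S.jm2
    simp only [Finset.mem_insert, Finset.mem_singleton] at hy
    simp only [hSj, hC, Finset.mem_filter, Finset.mem_univ, true_and]
    rcases hy with e | e | e | e <;> subst y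
    · exact ⟨⟨⟨S.central1 a ha, by rw [hv]; rw [mul_assoc a b a, ← hab]⟩, haa⟩,
        a, ha, 1, one_mem _, (mul_one a).symm⟩
    · refine ⟨⟨⟨S.central1 _ m1, ?_⟩, ?_⟩, a * j, m1, 1, one_mem _, (mul_one _).symm⟩
      · rw [mul_assoc, ← hvj, ← mul_assoc, show a * v = v * a by rw [hv, mul_assoc a b a, ← hab],
          mul_assoc, mul_assoc]
      · rw [mul_assoc, ← mul_assoc j, ← S.central1 a ha, mul_assoc a j j, S.jj, mul_one, haa]
    · refine ⟨⟨⟨S.central2 b hb, ?_⟩, hbb⟩, 1, one_mem _, b, hb, (one_mul b).symm⟩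
      rw [hv, ← mul_assoc, ← hab]
    · refine ⟨⟨⟨S.central2 _ m2, ?_⟩, ?_⟩, 1, one_mem _, b * j, m2, (one_mul _).symm⟩
      · rw [mul_assoc, ← hvj, ← mul_assoc, show b * v = v * b by rw [hv, ← mul_assoc, ← hab],
          mul_assoc, mul_assoc]
      · rw [mul_assoc, ← mul_assoc j, ← S.central2 b hb, mul_assoc b j j, S.jj, mul_one, hbb]
  have hfour : ({a, a * j, b, b * j} : Finset G).card = 4 := by
    have hne : ∀ y : G, y ≠ y * j := fun y h => S.jne (left_eq_mul.1 h)
    have hab' : ∀ c, c = a ∨ c = a * j → ∀ d, d = b ∨ d = b * j → c ≠ d := by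
      intro c hc d hd e
      have hcL : c ∈ L₁ := by rcases hc with rfl | rfl; exacts [ha, mul_mem ha S.jm1]
      have hdL : d ∈ L₂ := by rcases hd with rfl | rfl; exacts [hb, mul_mem hb S.jm2]
      have hcc : c * c = j := by
        rcases hc with rfl | rfl
        · exact haa
        · rw [mul_assoc, ← mul_assoc j, ← S.central1 a ha, mul_assoc a j j, S.jj, mul_one, haa]
      rcases S.inter c hcL (e ▸ hdL) with h | h <;> rw [h] at hcc
      · exact S.jne (by rw [← hcc, mul_one])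
      · exact S.jne (by rw [← hcc, S.jj])
    rw [Finset.card_insert_of_notMem, Finset.card_insert_of_notMem, Finset.card_insert_of_notMem,
      Finset.card_singleton]
    · rw [Finset.mem_singleton]; exact hne b
    · simp only [Finset.mem_insert, Finset.mem_singleton, not_or]
      exact ⟨hab' _ (Or.inr rfl) _ (Or.inl rfl), hab' _ (Or.inr rfl) _ (Or.inr rfl)⟩
    · simp only [Finset.mem_insert, Finset.mem_singleton, not_or]
      exact ⟨hne a, hab' _ (Or.inl rfl) _ (Or.inl rfl), hab' _ (Or.inl rfl) _ (Or.inr rfl)⟩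
  have hMv : (Sv.filter inM).card ≤ 4 := by
    let R : G → Finset G := fun c => (Finset.univ.filter fun y : G =>
      ∃ x ∈ L₁, ∃ z ∈ L₂, y = x * z ∧ x * x = c ∧ x * x * (z * z) = v)
    have hsub : Sv.filter inM ⊆ R a ∪ R (a * j) := by
      intro y hy
      simp only [hSv, hC, Finset.mem_filter, Finset.mem_univ, true_and] at hy
      obtain ⟨⟨-, hyy⟩, x, hx, z, hz, rfl⟩ := hy
      rw [S.sq_prod hx hz] at hyy
      simp only [Finset.mem_union, R, Finset.mem_filter, Finset.mem_univ, true_and]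
      rcases S.split (mul_mem hx hx) (mul_mem hz hz) ha hb hyy with ⟨e, -⟩ | ⟨e, -⟩
      · exact Or.inl ⟨x, hx, z, hz, rfl, e, hyy⟩
      · exact Or.inr ⟨x, hx, z, hz, rfl, e, hyy⟩
    have hR : ∀ c, (c = a ∨ c = a * j) → (R c).card ≤ 2 := by
      intro c hc
      rcases (R c).eq_empty_or_nonempty with h | ⟨y₀, hy₀⟩
      · rw [h, Finset.card_empty]; omega
      simp only [R, Finset.mem_filter, Finset.mem_univ, true_and] at hy₀
      obtain ⟨x₀, hx₀, z₀, hz₀, rfl, hc₀, hv₀⟩ := hy₀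
      have hcomm : ∀ x ∈ L₁, x * x = c → x * a = a * x := by
        intro x hx e
        rcases hc with rfl | rfl
        · rw [← e, mul_assoc]
        · have : a = x * x * j := by rw [e, mul_assoc, S.jj, mul_one]
          calc x * a = x * (x * x * j) := by rw [← this]
            _ = x * x * (x * j) := by group
            _ = x * x * (j * x) := by rw [S.central1 x hx]
            _ = x * x * j * x := by group
            _ = a * x := by rw [← this]
      have hsub2 : R c ⊆ {x₀ * z₀, x₀ * z₀ * j} := by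
        intro y hy
        simp only [R, Finset.mem_filter, Finset.mem_univ, true_and] at hy
        obtain ⟨x, hx, z, hz, rfl, hc1, hv1⟩ := hy
        have hxx : x₀ * x = x * x₀ :=
          S.h1.tor a ha haa x₀ hx₀ x hx (hcomm x₀ hx₀ hc₀) (hcomm x hx hc1)
        have hzz2 : z * z = z₀ * z₀ := by
          rw [hc1] at hv1; rw [hc₀] at hv₀
          exact mul_left_cancel (hv1.trans hv₀.symm)
        have hzb : ∀ w ∈ L₂, w * w = z₀ * z₀ → w * b = b * w := by
          intro w hw e
          rcases S.split (mul_mem hx₀ hx₀) (mul_mem hz₀ hz₀) ha hb hv₀ with ⟨-, e0⟩ | ⟨-, e0⟩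
          · rw [← e0, ← e, mul_assoc]
          · have : b = j * (w * w) := by rw [e, e0, ← mul_assoc, S.jj, one_mul]
            calc w * b = w * j * (w * w) := by rw [this]; group
              _ = j * w * (w * w) := by rw [S.central2 w hw]
              _ = b * w := by rw [this]; group
        have hzc : z₀ * z = z * z₀ :=
          S.h2.tor b hb hbb z₀ hz₀ z hz (hzb z₀ hz₀ rfl) (hzb z hz hzz2)
        have hx' : x = x₀ ∨ x = x₀ * j := by
          have : (x₀⁻¹ * x) * (x₀⁻¹ * x) = 1 := by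
            have hi : x * x₀⁻¹ = x₀⁻¹ * x := (Commute.inv_left hxx).eq.symm
            calc (x₀⁻¹ * x) * (x₀⁻¹ * x) = x₀⁻¹ * (x * x₀⁻¹) * x := by group
              _ = x₀⁻¹ * x₀⁻¹ * (x * x) := by rw [hi]; group
              _ = 1 := by rw [hc1, ← hc₀]; group
          rcases S.h1.invol _ (mul_mem (inv_mem hx₀) hx) this with e | e
          · exact Or.inl (inv_mul_eq_one.1 e).symm
          · exact Or.inr (by rw [← e, mul_inv_cancel_left])
        have hz' : z = z₀ ∨ z = z₀ * j := by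
          have : (z₀⁻¹ * z) * (z₀⁻¹ * z) = 1 := by
            have hi : z * z₀⁻¹ = z₀⁻¹ * z := (Commute.inv_left hzc).eq.symm
            calc (z₀⁻¹ * z) * (z₀⁻¹ * z) = z₀⁻¹ * (z * z₀⁻¹) * z := by group
              _ = z₀⁻¹ * z₀⁻¹ * (z * z) := by rw [hi]; group
              _ = 1 := by rw [hzz2]; group
          rcases S.h2.invol _ (mul_mem (inv_mem hz₀) hz) this with e | e
          · exact Or.inl (inv_mul_eq_one.1 e).symm
          · exact Or.inr (by rw [← e, mul_inv_cancel_left])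
        simp only [Finset.mem_insert, Finset.mem_singleton]
        rcases hx' with rfl | rfl <;> rcases hz' with rfl | rfl
        · exact Or.inl rfl
        · exact Or.inr (mul_assoc _ _ _).symm
        · right; rw [mul_assoc, ← S.central2 z hz₀, mul_assoc]
        · left
          rw [mul_assoc, ← mul_assoc j, ← S.central2 z₀ hz₀, mul_assoc z₀, S.jj, mul_one]
      exact (Finset.card_le_card hsub2).trans Finset.card_le_two
    refine (Finset.card_le_card hsub).trans ((Finset.card_union_le _ _).trans ?_)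
    have := hR a (Or.inl rfl); have := hR (a * j) (Or.inr rfl)
    omega
  -- square roots outside
  have hmap : ∀ y ∈ Sv, ¬ inM y → y * b ∈ Sj ∧ ¬ inM (y * b) ∧ y * b ≠ n := by
    intro y hy hyM
    have hyC : y ∈ C := (Finset.mem_filter.1 hy).1
    have hyy : y * y = v := (Finset.mem_filter.1 hy).2
    obtain ⟨hyj, hyv⟩ := (Finset.mem_filter.1 hyC).2
    obtain ⟨x, hx, z, hz, rfl⟩ := hout y hyC hyM
    set y := n * (x * z) with hy'
    have hxn : n⁻¹ * x * n ∈ L₂ := by rw [S.conj_eq_conj_inv (S.central1 x hx)]; exact S.swap x hx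
    have hzn : n⁻¹ * z * n ∈ L₁ := by rw [S.conj_eq_conj_inv (S.central2 z hz)]; exact S.swapback z hz
    -- conjugates of `a` and `b` under `y`
    have hca : y⁻¹ * b * y = x⁻¹ * a * x := by
      have e : n⁻¹ * b * n = a := by rw [S.conj_eq_conj_inv (S.central2 b hb)]; exact hnb
      calc y⁻¹ * b * y = z⁻¹ * (x⁻¹ * (n⁻¹ * b * n) * x) * z := by rw [hy']; group
        _ = z⁻¹ * ((x⁻¹ * a * x) * z) := by rw [e]; group
        _ = z⁻¹ * (z * (x⁻¹ * a * x)) := by
          rw [S.comm _ (mul_mem (mul_mem (inv_mem hx) ha) hx) z hz]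
        _ = _ := by group
    have hcb : y⁻¹ * a * y = z⁻¹ * b * z := by
      have e : n⁻¹ * a * n = b := by rw [S.conj_eq_conj_inv (S.central1 a ha)]
      calc y⁻¹ * a * y = z⁻¹ * (x⁻¹ * (n⁻¹ * a * n) * x) * z := by rw [hy']; group
        _ = z⁻¹ * (x⁻¹ * (b * x)) * z := by rw [e]; group
        _ = z⁻¹ * (x⁻¹ * (x * b)) * z := by rw [S.comm x hx b hb]
        _ = _ := by group
    have hprod : (x⁻¹ * a * x) * (z⁻¹ * b * z) = a * b := by
      rw [← hca, ← hcb]
      calc y⁻¹ * b * y * (y⁻¹ * a * y) = y⁻¹ * (b * a) * y := by group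
        _ = y⁻¹ * v * y := by rw [hv, S.comm a ha b hb]
        _ = y⁻¹ * (y * v) := by rw [mul_assoc, ← hyv]
        _ = v := by group
    have hconj : y⁻¹ * b * y = a * j := by
      rw [hca]
      rcases S.split (mul_mem (mul_mem (inv_mem hx) ha) hx) (mul_mem (mul_mem (inv_mem hz) hb) hz)
        ha hb hprod with ⟨e1, e2⟩ | ⟨e1, -⟩
      · exfalso
        have hxa : x * a = a * x := by
          have : x * (x⁻¹ * a * x) = x * a := by rw [e1]
          rw [← this]; group
        have hzb : z * b = b * z := by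
          have : z * (z⁻¹ * b * z) = z * b := by rw [e2]
          rw [← this]; group
        have hza : (n⁻¹ * z * n) * a = a * (n⁻¹ * z * n) := by
          have e : n⁻¹ * b * n = a := by rw [S.conj_eq_conj_inv (S.central2 b hb)]; exact hnb
          rw [← e, show n⁻¹ * z * n * (n⁻¹ * b * n) = n⁻¹ * (z * b) * n by group, hzb]
          group
        set c := n⁻¹ * z * n * x with hc
        have hcx : c = x * (n⁻¹ * z * n) := S.h1.tor a ha haa _ hzn x hx hza hxa
        have hd : n⁻¹ * x * n * z = n⁻¹ * c * n := by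
          rw [hcx]
          conv_rhs => rw [S.conj_eq_conj_inv (S.central2 z hz)]
          group
        have hs := S.sq_out hx hz
        rw [← hy', hyy, hd] at hs
        have hs' : c * (n⁻¹ * c * n) = (a * j) * b := by
          have h' := congrArg (fun t => j * t) hs
          simp only [← mul_assoc, S.jj, one_mul] at h'
          rw [S.central1 a ha, mul_assoc j a b, ← hv, mul_assoc, mul_assoc]
          simpa [mul_assoc] using h'.symm
        have e' : n⁻¹ * a * n = b := by rw [S.conj_eq_conj_inv (S.central1 a ha)]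
        have hcL : c ∈ L₁ := mul_mem hzn hx
        have hcn : n⁻¹ * c * n ∈ L₂ := by
          rw [S.conj_eq_conj_inv (S.central1 c hcL)]; exact S.swap c hcL
        rcases S.split hcL hcn (mul_mem ha S.jm1) hb hs' with ⟨f1, f2⟩ | ⟨f1, f2⟩
        · rw [f1, show n⁻¹ * (a * j) * n = (n⁻¹ * a * n) * (n⁻¹ * j * n) by group, e',
            mul_assoc n⁻¹ j n, ← S.n_comm, inv_mul_cancel_left] at f2
          exact S.jne (mul_eq_left.1 f2)
        · rw [mul_assoc, S.jj, mul_one] at f1
          rw [f1, e'] at f2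
          exact S.jne (right_eq_mul.1 f2)
      · exact e1
    have hsq : y * b * (y * b) = j := by
      calc y * b * (y * b) = y * y * ((y⁻¹ * b * y) * b) := by group
        _ = v * ((a * j) * b) := by rw [hyy, hconj]
        _ = v * (j * v) := by rw [S.central1 a ha, hv]; group
        _ = v * v * j := by rw [← hvj]; group
        _ = j := by
          rw [hv, S.sq_prod ha hb, haa, hbb, S.jj, one_mul]
    have hbv : b * v = v * b := by rw [hv, ← mul_assoc, ← S.comm a ha b hb]
    refine ⟨?_, ?_, ?_⟩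
    · simp only [hSj, hC, Finset.mem_filter, Finset.mem_univ, true_and]
      refine ⟨⟨?_, ?_⟩, hsq⟩
      · rw [mul_assoc, S.central2 b hb, ← mul_assoc, hyj, mul_assoc]
      · rw [mul_assoc, hbv, ← mul_assoc, hyv, mul_assoc]
    · rintro ⟨x', hx', z', hz', e⟩
      exact hyM ⟨x', hx', z' * b⁻¹, mul_mem hz' (inv_mem hb), by
        rw [← mul_assoc, ← e, mul_inv_cancel_right]⟩
    · intro e
      rw [e] at hsq
      have he : y = n * b⁻¹ := eq_mul_inv_of_mul_eq e
      have h1 : n⁻¹ * b⁻¹ * n = a⁻¹ := by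
        rw [S.conj_eq_conj_inv (S.central2 _ (inv_mem hb)),
          show n * b⁻¹ * n⁻¹ = (n * b * n⁻¹)⁻¹ by group, hnb]
      have h2 : y * y = j * (a⁻¹ * b⁻¹) := by
        rw [he, show n * b⁻¹ * (n * b⁻¹) = (n * n) * ((n⁻¹ * b⁻¹ * n) * b⁻¹) by group, S.nn, h1]
      have ha' : a⁻¹ = j * a := by
        refine inv_eq_of_mul_eq_one_right ?_
        rw [← mul_assoc, S.central1 a ha, mul_assoc, haa, S.jj]
      have hb2 : b⁻¹ = j * b := by
        refine inv_eq_of_mul_eq_one_right ?_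
        rw [← mul_assoc, S.central2 b hb, mul_assoc, hbb, S.jj]
      rw [hyy, ha', hb2, show j * (j * a * (j * b)) = (j * j) * (a * j) * b by group, S.jj, one_mul,
        S.central1 a ha, mul_assoc, ← hv] at h2
      exact S.jne (right_eq_mul.1 h2)
  have hnj : n ∈ Sj.filter (fun y => ¬ inM y) := by
    simp only [hSj, hC, Finset.mem_filter, Finset.mem_univ, true_and]
    refine ⟨⟨⟨S.n_comm, hnv⟩, S.nn⟩, ?_⟩
    rintro ⟨x, hx, z, hz, e⟩
    -- then `n` normalizes `L₁`
    have hx1 : n * a * n⁻¹ ∈ L₁ := by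
      rw [e, show x * z * a * (x * z)⁻¹ = x * (z * a) * z⁻¹ * x⁻¹ by group, ← S.comm a ha z hz]
      have : x * (a * z) * z⁻¹ * x⁻¹ = x * a * x⁻¹ := by group
      rw [this]; exact mul_mem (mul_mem hx ha) (inv_mem hx)
    rw [← hb'] at hx1
    rcases S.inter b hx1 hb with h | h <;> rw [h] at hbb
    · exact S.jne (by rw [← hbb, mul_one])
    · exact S.jne (by rw [← hbb, S.jj])
  have hlt : (Sv.filter fun y => ¬ inM y).card < (Sj.filter fun y => ¬ inM y).card := by
    have himg : (Sv.filter fun y => ¬ inM y).image (fun y => y * b) ⊆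
        (Sj.filter fun y => ¬ inM y).erase n := by
      intro w hw
      obtain ⟨y, hy, rfl⟩ := Finset.mem_image.1 hw
      rw [Finset.mem_filter] at hy
      obtain ⟨k1, k2, k3⟩ := hmap y hy.1 hy.2
      exact Finset.mem_erase.2 ⟨k3, Finset.mem_filter.2 ⟨k1, k2⟩⟩
    have hle := Finset.card_le_card himg
    rw [Finset.card_image_of_injective _ (fun _ _ e => mul_right_cancel e),
      Finset.card_erase_of_mem hnj] at hle
    have := Finset.card_pos.2 ⟨n, hnj⟩
    omega
  have hj4 := Finset.card_le_card hMj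
  rw [hfour] at hj4
  rw [← Finset.card_filter_add_card_filter_not (s := Sj) inM,
    ← Finset.card_filter_add_card_filter_not (s := Sv) inM] at hcard
  omega

/-- `j` is isolated. -/
theorem Swap.isolated : Cfsg.IsIsolatedInvolution j := by
  refine ⟨orderOf_eq_prime (by rw [pow_two, S.jj]) S.jne, fun g hc => ?_⟩
  by_contra hne
  set v := g * j * g⁻¹ with hv
  have conj_invol : ∀ h : G, (h * j * h⁻¹) * (h * j * h⁻¹) = 1 ∧ h * j * h⁻¹ ≠ 1 := fun h => by
    refine ⟨by rw [show h * j * h⁻¹ * (h * j * h⁻¹) = h * (j * j) * h⁻¹ by group, S.jj]; group, ?_⟩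
    intro e
    exact S.jne (conj_eq_one_iff.1 e)
  obtain ⟨a, ha, b, hb, haa, hbb, hab⟩ :=
    S.invol_cases hc.eq.symm (conj_invol g).1 (conj_invol g).2 hne
  -- replace `v` by the standard product
  have hb0 : n * a * n⁻¹ * (n * a * n⁻¹) = j := by
    rw [show n * a * n⁻¹ * (n * a * n⁻¹) = n * (a * a) * n⁻¹ by group, haa, S.n_comm,
      mul_inv_cancel_right]
  obtain ⟨m, hmj, hm⟩ := S.four_conj ha hb ha (S.swap a ha) haa hbb haa hb0
  rw [← hab] at hm
  set g₁ := m * g with hg₁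
  have hg1 : g₁ * j * g₁⁻¹ = a * (n * a * n⁻¹) := by
    rw [← hm, hg₁, hv]; group
  -- the preimage of `j` is an involution of `C(j)` of the same kind
  set i := g₁⁻¹ * j * g₁⁻¹⁻¹ with hi
  have hij : i * j = j * i := by
    have hv0j : (a * (n * a * n⁻¹)) * j = j * (a * (n * a * n⁻¹)) := by
      rw [mul_assoc, S.central2 _ (S.swap a ha), ← mul_assoc, S.central1 a ha, mul_assoc]
    calc i * j = g₁⁻¹ * (j * (g₁ * j * g₁⁻¹)) * g₁ := by rw [hi]; group
      _ = g₁⁻¹ * ((g₁ * j * g₁⁻¹) * j) * g₁ := by rw [hg1, hv0j]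
      _ = j * i := by rw [hi]; group
  have hi_ne : i ≠ j := by
    intro e
    have h1 : g₁ * j * g₁⁻¹ = j := by
      conv_lhs => rw [← e, hi]
      group
    rw [hg1] at h1
    rcases S.split ha (S.swap a ha) S.jm1 (one_mem L₂) (by rw [h1, mul_one]) with ⟨f, -⟩ | ⟨f, -⟩
    · rw [f, S.jj] at haa; exact S.jne haa.symm
    · rw [S.jj] at f; rw [f, mul_one] at haa; exact S.jne haa.symm
  obtain ⟨a', ha', b', hb', haa', hbb', hab'⟩ :=
    S.invol_cases hij (conj_invol g₁⁻¹).1 (conj_invol g₁⁻¹).2 hi_ne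
  obtain ⟨m', hm'j, hm'⟩ := S.four_conj ha' hb' ha (S.swap a ha) haa' hbb' haa hb0
  rw [← hab'] at hm'
  refine S.no_exchange ha haa (g := g₁ * m'⁻¹) ?_ ?_
  · rw [← hm', hi]; group
  · rw [show g₁ * m'⁻¹ * j * (g₁ * m'⁻¹)⁻¹ = g₁ * (m'⁻¹ * (j * m')) * g₁⁻¹ by group, ← hm'j,
      inv_mul_cancel_left, hg1]

end Cfsg.Agent.TwoSL2
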